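import Mathlib
import Groth.Agent.TorLib.ChangeRing
import Groth.Agent.TorLib.Symm
import Groth.Agent.TorRegLib.Basic
import Groth.Prelude.Def_IntMult

/-! The Euler characteristic of `Tor` after reduction to the diagonal. -/

set_option autoImplicit false
set_option linter.style.haveILetI false
set_option backward.isDefEq.respectTransparency false

universe u

open CategoryTheory CategoryTheory.Limits TensorProduct Groth.Agent

noncomputable section

namespace Groth.Agent.DiagRedLib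

variable {A B : Type u} [CommRing A] [CommRing B]

/-- `Tor` is functorial in the first argument. -/
def torLeftCongr {A : Type u} [CommRing A] {M M' : Type u} [AddCommGroup M] [Module A M] [AddCommGroup M'] [Module A M'] (e : M ≃ₗ[A] M')
    (N : Type u) [AddCommGroup N] [Module A N] (i : ℕ) : DRing.Tor A i M N ≃ₗ[A] DRing.Tor A i M' N :=
  (((CategoryTheory.Tor (ModuleCat.{u} A) i).mapIso
    (LinearEquiv.toModuleIso (R := A) (X₁ := M) (X₂ := M') e)).app (ModuleCat.of A N)).toLinearEquiv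

theorem chi_comm (M N : Type u) [AddCommGroup M] [Module A M] [AddCommGroup N] [Module A N] :
    IntMult.chi A M N = IntMult.chi A N M := by
  refine finsum_congr fun i => ?_
  obtain ⟨e⟩ := TorLib.tor_symm (A := A) i M N
  rw [e.length_eq]

/-- An element killing `M` kills `Tor(M, N)`. -/
theorem smul_tor_eq_zero {A : Type u} [CommRing A] {M : Type u} (N : Type u) [AddCommGroup M] [Module A M]
    [AddCommGroup N] [Module A N] {a : A} (ha : ∀ m : M, a • m = 0) (i : ℕ) (z : DRing.Tor A i M N) : a • z = 0 := by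
  let P := projectiveResolution (ModuleCat.of A N)
  have h0 : a • 𝟙 (ModuleCat.of A M) = 0 := ModuleCat.hom_ext (LinearMap.ext fun x => ha x)
  have h1 := TorRegLib.homologyMap_cxMap_smul P (ModuleCat.of A M) a i
  have h2 : TorLib.cxMap P (0 : ModuleCat.of A M ⟶ ModuleCat.of A M) = 0 := by
    ext j : 1
    exact MonoidalPreadditive.zero_whiskerRight
  rw [h0, h2, HomologicalComplex.homologyMap_zero] at h1
  let φ := (TorLib.torIso P (ModuleCat.of A M) i).toLinearEquiv
  refine φ.injective ?_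
  rw [map_smul, map_zero]
  exact (ConcreteCategory.congr_hom h1 (φ z)).symm

variable [Algebra A B]

theorem length_semilinear {T T' : Type u} [AddCommGroup T] [Module A T] [AddCommGroup T'] [Module B T']
    (φ : T →ₛₗ[algebraMap A B] T') (hφ : Function.Bijective φ)
    (h : ∀ b : B, ∃ a : A, ∀ x : T', algebraMap A B a • x = b • x) : Module.length A T = Module.length B T' := by
  let e : Submodule A T ≃o Submodule B T' :=
    { toFun := fun p =>
        { carrier := φ '' (p : Set T)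
          add_mem' := by
            rintro _ _ ⟨x, hx, rfl⟩ ⟨y, hy, rfl⟩
            exact ⟨x + y, p.add_mem hx hy, map_add φ x y⟩
          zero_mem' := ⟨0, p.zero_mem, map_zero φ⟩
          smul_mem' := by
            rintro b _ ⟨x, hx, rfl⟩
            obtain ⟨a, ha⟩ := h b
            exact ⟨a • x, p.smul_mem a hx, by rw [map_smulₛₗ, ha]⟩ }
      invFun := fun q => q.comap φ
      left_inv := fun p => SetLike.coe_injective (hφ.1.preimage_image _)
      right_inv := fun q => SetLike.coe_injective (Set.image_preimage_eq _ hφ.2)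
      map_rel_iff' := fun {p q} => Set.image_subset_image_iff hφ.1 }
  have := Order.krullDim_eq_of_orderIso e
  rw [← Module.coe_length, ← Module.coe_length] at this
  exact_mod_cast this

/-- Change of rings along a flat map, onto a quotient through which it becomes surjective. -/
theorem length_tor_flat [Module.Flat A B] (K : Ideal B) (hK : Function.Surjective (algebraMap A (B ⧸ K)))
    (I : Ideal A) (i : ℕ) :
    Module.length A (DRing.Tor A i (B ⧸ K) (A ⧸ I)) =
      Module.length B (DRing.Tor B i (B ⧸ K) (B ⧸ I.map (algebraMap A B))) := by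
  obtain ⟨φ, hφ⟩ := TorLib.exists_semilinear_bijective B (B ⧸ K) (A ⧸ I)
    (fun n => TorLib.subsingleton_tor_of_flat B (A ⧸ I) n) (B ⧸ I.map (algebraMap A B))
    (Algebra.TensorProduct.quotIdealMapEquivTensorQuot B I).symm.toLinearEquiv i
  refine length_semilinear φ hφ fun b => ?_
  obtain ⟨a, ha⟩ := hK (Ideal.Quotient.mk K b)
  refine ⟨a, fun x => sub_eq_zero.1 ?_⟩
  rw [← sub_smul]
  refine smul_tor_eq_zero _ (fun m => ?_) i x
  obtain ⟨m, rfl⟩ := Ideal.Quotient.mk_surjective m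
  rw [Algebra.smul_def, Ideal.Quotient.algebraMap_eq, ← map_mul, map_mul, map_sub]
  rw [show Ideal.Quotient.mk K (algebraMap A B a) = Ideal.Quotient.mk K b from ha, sub_self, zero_mul]

/-- Change of rings along a quotient map with no higher `Tor`. -/
theorem length_tor_quot (P L : Ideal B) (h : ∀ n : ℕ, Subsingleton (DRing.Tor B (n + 1) (B ⧸ P) (B ⧸ L)))
    (C : Ideal (B ⧸ P)) (i : ℕ) :
    Module.length B (DRing.Tor B i ((B ⧸ P) ⧸ C) (B ⧸ L)) =
      Module.length (B ⧸ P) (DRing.Tor (B ⧸ P) i ((B ⧸ P) ⧸ C) ((B ⧸ P) ⧸ L.map (algebraMap B (B ⧸ P)))) := by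
  obtain ⟨φ, hφ⟩ := TorLib.exists_semilinear_bijective (B ⧸ P) ((B ⧸ P) ⧸ C) (B ⧸ L) h
    ((B ⧸ P) ⧸ L.map (algebraMap B (B ⧸ P)))
    (Algebra.TensorProduct.quotIdealMapEquivTensorQuot (B ⧸ P) L).symm.toLinearEquiv i
  refine length_semilinear φ hφ fun b => ?_
  obtain ⟨a, ha⟩ := Ideal.Quotient.mk_surjective b
  exact ⟨a, fun x => congrArg (· • x) ha⟩

/-- A quotient which is a section of a flat map is `Tor`-independent of the quotients by extended ideals. -/
theorem tor_vanish_section [Module.Flat A B] (L : Ideal B) (hL : Function.Bijective (algebraMap A (B ⧸ L)))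
    (J : Ideal A) (n : ℕ) : Subsingleton (DRing.Tor B (n + 1) (B ⧸ L) (B ⧸ J.map (algebraMap A B))) := by
  obtain ⟨φ, hφ⟩ := TorLib.exists_semilinear_bijective B (B ⧸ L) (A ⧸ J)
    (fun n => TorLib.subsingleton_tor_of_flat B (A ⧸ J) n) (B ⧸ J.map (algebraMap A B))
    (Algebra.TensorProduct.quotIdealMapEquivTensorQuot B J).symm.toLinearEquiv (n + 1)
  haveI : Module.Flat A (B ⧸ L) :=
    Module.Flat.of_linearEquiv (LinearEquiv.ofBijective (Algebra.linearMap A (B ⧸ L)) hL).symm
  haveI := TorLib.subsingleton_tor_of_flat (A := A) (B ⧸ L) (A ⧸ J) n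
  exact hφ.2.subsingleton

omit [Algebra A B] in
/-- Reduction to the diagonal. -/
theorem chi_diag (φ ψ : A →+* B) (δ : B →+* A) (hφ : δ.comp φ = RingHom.id A) (hψ : δ.comp ψ = RingHom.id A)
    (hψf : ψ.Flat) (I J : Ideal A) (hf : ((Ideal.Quotient.mk (J.map ψ)).comp φ).Flat) :
    IntMult.chi A (A ⧸ I) (A ⧸ J) = IntMult.chi B (B ⧸ RingHom.ker δ) (B ⧸ (I.map φ ⊔ J.map ψ)) := by
  letI : Algebra A (B ⧸ J.map ψ) := ((Ideal.Quotient.mk (J.map ψ)).comp φ).toAlgebra
  haveI : Module.Flat A (B ⧸ J.map ψ) := hf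
  let L := RingHom.ker δ
  let K : Ideal (B ⧸ J.map ψ) := L.map (algebraMap B (B ⧸ J.map ψ))
  let C : Ideal (B ⧸ J.map ψ) := I.map (algebraMap A (B ⧸ J.map ψ))
  have hvan : ∀ n : ℕ, Subsingleton (DRing.Tor B (n + 1) (B ⧸ J.map ψ) (B ⧸ L)) := fun n => by
    letI : Algebra A B := ψ.toAlgebra
    haveI : Module.Flat A B := hψf
    haveI := tor_vanish_section (A := A) L ⟨fun x y h => by
      have h1 : δ (ψ x - ψ y) = 0 := Ideal.Quotient.eq.1 h
      rw [map_sub, ← RingHom.comp_apply, ← RingHom.comp_apply, hψ] at h1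
      exact sub_eq_zero.1 h1, fun z => by
        obtain ⟨b, rfl⟩ := Ideal.Quotient.mk_surjective z
        refine ⟨δ b, Ideal.Quotient.eq.2 ?_⟩
        show δ (ψ (δ b) - b) = 0
        rw [map_sub, ← RingHom.comp_apply δ ψ, hψ, RingHom.id_apply, sub_self]⟩ J n
    obtain ⟨e⟩ := TorLib.tor_symm (A := B) (n + 1) (B ⧸ L) (B ⧸ J.map ψ)
    exact e.symm.toEquiv.subsingleton
  have hK : Function.Surjective (algebraMap A ((B ⧸ J.map ψ) ⧸ K)) := fun z => by
    obtain ⟨w, rfl⟩ := Ideal.Quotient.mk_surjective z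
    obtain ⟨b, rfl⟩ := Ideal.Quotient.mk_surjective w
    refine ⟨δ b, Ideal.Quotient.eq.2 ?_⟩
    show Ideal.Quotient.mk (J.map ψ) (φ (δ b)) - Ideal.Quotient.mk (J.map ψ) b ∈ K
    rw [← map_sub]
    refine Ideal.mem_map_of_mem _ ?_
    show δ (φ (δ b) - b) = 0
    rw [map_sub, ← RingHom.comp_apply δ φ, hφ, RingHom.id_apply, sub_self]
  have hker : ∀ x : A, algebraMap A ((B ⧸ J.map ψ) ⧸ K) x = 0 ↔ x ∈ J := fun x => by
    refine ⟨fun h => ?_, fun h => Ideal.Quotient.eq_zero_iff_mem.2 ?_⟩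
    · have h1 : φ x ∈ K.comap (Ideal.Quotient.mk (J.map ψ)) := by
        rw [Ideal.mem_comap]
        exact (Ideal.Quotient.eq_zero_iff_mem (I := K) (a := Ideal.Quotient.mk (J.map ψ) (φ x))).1 h
      rw [show K = L.map (Ideal.Quotient.mk (J.map ψ)) from rfl,
        Ideal.comap_map_of_surjective _ Ideal.Quotient.mk_surjective, ← RingHom.ker_eq_comap_bot, Ideal.mk_ker] at h1
      have h2 := Ideal.mem_map_of_mem δ h1
      rwa [Ideal.map_sup, Ideal.map_map, hψ, Ideal.map_id, Ideal.map_eq_bot_iff_le_ker δ |>.2 le_rfl, bot_sup_eq,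
        ← RingHom.comp_apply, hφ] at h2
    · show Ideal.Quotient.mk (J.map ψ) (φ x) ∈ K
      rw [← sub_add_cancel (φ x) (ψ x), map_add, Ideal.Quotient.eq_zero_iff_mem.2 (Ideal.mem_map_of_mem ψ h), add_zero]
      refine Ideal.mem_map_of_mem _ ?_
      show δ (φ x - ψ x) = 0
      rw [map_sub, ← RingHom.comp_apply, ← RingHom.comp_apply δ ψ, hφ, hψ, sub_self]
  let eD : (A ⧸ J) ≃ₗ[A] (B ⧸ J.map ψ) ⧸ K :=
    (Submodule.quotEquivOfEq _ _ (Ideal.ext fun x => (hker x).symm)).trans
      ((Algebra.linearMap A ((B ⧸ J.map ψ) ⧸ K)).quotKerEquivOfSurjective hK)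
  let eC : ((B ⧸ J.map ψ) ⧸ C) ≃ₐ[B] B ⧸ (I.map φ ⊔ J.map ψ) :=
    (Ideal.quotientEquivAlgOfEq B (show C = (I.map φ).map (Ideal.Quotient.mkₐ B (J.map ψ)) from
      (Ideal.map_map φ (Ideal.Quotient.mk (J.map ψ))).symm)).trans
      ((DoubleQuot.quotQuotEquivQuotSupₐ B (J.map ψ) (I.map φ)).trans (Ideal.quotientEquivAlgOfEq B (sup_comm _ _)))
  rw [chi_comm]
  refine finsum_congr fun i => ?_
  obtain ⟨e₁⟩ := TorLib.tor_symm (A := B ⧸ J.map ψ) i ((B ⧸ J.map ψ) ⧸ C) ((B ⧸ J.map ψ) ⧸ K)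

  obtain ⟨e₃⟩ := TorLib.tor_symm (A := B) i (B ⧸ L) (B ⧸ (I.map φ ⊔ J.map ψ))
  rw [(torLeftCongr eD (A ⧸ I) i).length_eq, length_tor_flat K hK I i, ← e₁.length_eq,
    ← length_tor_quot (J.map ψ) L hvan C i, (torLeftCongr eC.toLinearEquiv (B ⧸ L) i).length_eq, ← e₃.length_eq]

end Groth.Agent.DiagRedLib
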