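import Mathlib
import Groth.Agent.DiagRedLib.Chi
import Groth.Agent.RegIdealLib.Immersion
import Groth.Agent.IdealStalkLib.Comap
import Groth.Agent.S7631

/-! The stalk data of reduction to the diagonal. -/

set_option autoImplicit false
set_option linter.style.haveILetI false
set_option backward.isDefEq.respectTransparency false
set_option backward.isDefEq.respectTransparency.types false
set_option linter.unusedSectionVars false

universe u

open CategoryTheory CategoryTheory.Limits AlgebraicGeometry IsLocalRing Groth.Agent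

noncomputable section

namespace Groth.Agent.DiagRedLib

theorem stalkIdeal_sup {X : Scheme.{u}} (I J : X.IdealSheafData) (x : X) :
    IntMult.stalkIdeal (I ⊔ J) x = IntMult.stalkIdeal I x ⊔ IntMult.stalkIdeal J x := by
  simp only [IntMult.stalkIdeal, Scheme.IdealSheafData.ideal_sup, Pi.sup_apply, Ideal.map_sup, iSup_sup_eq]

theorem stalkIdeal_congr {X : Scheme.{u}} (I : X.IdealSheafData) {x y : X} (e : x = y) :
    IntMult.stalkIdeal I x =
      (IntMult.stalkIdeal I y).map (X.presheaf.stalkSpecializes (specializes_of_eq e)).hom := by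
  subst e
  rw [TopCat.Presheaf.stalkSpecializes_refl, CommRingCat.hom_id, Ideal.map_id]

theorem section_stalk {X P : Scheme.{u}} (g : P ⟶ X) (s : X ⟶ P) (hs : s ≫ g = 𝟙 X) (ξ : X) (h : g (s ξ) ⤳ ξ) :
    X.presheaf.stalkSpecializes h ≫ g.stalkMap (s ξ) ≫ s.stalkMap ξ = 𝟙 _ := by
  rw [← Scheme.Hom.stalkMap_comp, Scheme.Hom.stalkMap_congr_hom _ _ hs ξ, Scheme.Hom.stalkMap_id]
  simp [TopCat.Presheaf.stalkSpecializes_comp]

theorem flat_specializes {X P : Scheme.{u}} (g : P ⟶ X) [Flat g] (z : P) (ξ : X) (h : g z = ξ) :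
    (X.presheaf.stalkSpecializes (specializes_of_eq h) ≫ g.stalkMap z).hom.Flat := by
  subst h
  rw [TopCat.Presheaf.stalkSpecializes_refl, Category.id_comp]
  exact Flat.stalkMap g z

theorem stalkIdeal_ker {X Y : Scheme.{u}} (j : Y ⟶ X) [IsClosedImmersion j] (y : Y) :
    IntMult.stalkIdeal j.ker (j y) = RingHom.ker (j.stalkMap y).hom := by
  obtain ⟨_, ⟨W : X.Opens, hW, rfl⟩, hy, -⟩ :=
    X.isBasis_affineOpens.exists_subset_of_mem_open (Set.mem_univ (j y)) isOpen_univ
  rw [RegIdealLib.ker_stalkMap j hW (IsZariskiLocalAtTarget.restrict (P := @IsClosedImmersion) ‹_› W) y hy,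
    IdealStalkLib.stalkIdeal_eq j.ker ⟨W, hW⟩ (j y) hy, Scheme.Hom.ker_apply]

theorem flat_quot {A B C : Type u} [CommRing A] [CommRing B] [CommRing C] (φ : A →+* B) (q : B →+* C)
    (hq : Function.Surjective q) (Q : Ideal B) (hQ : RingHom.ker q = Q) (h : (q.comp φ).Flat) :
    ((Ideal.Quotient.mk Q).comp φ).Flat := by
  subst hQ
  let e := RingHom.quotientKerEquivOfSurjective hq
  have he : ((Ideal.Quotient.mk (RingHom.ker q)).comp φ) = e.symm.toRingHom.comp (q.comp φ) := by
    refine RingHom.ext fun a => e.injective ?_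
    show e (Ideal.Quotient.mk _ (φ a)) = e (e.symm (q (φ a)))
    rw [RingEquiv.apply_symm_apply]
    rfl
  rw [he]
  exact h.comp (RingHom.Flat.of_bijective e.symm.bijective)

variable {K : Type u} [Field K] {X : Scheme.{u}} (f : X ⟶ Spec (CommRingCat.of K)) [IsSeparated f]

/-- The local ring of the square at the diagonal point. -/
abbrev Bd (ξ : X) : CommRingCat := (pullback f f).presheaf.stalk (pullback.diagonal f ξ)

theorem fst_diag (ξ : X) : pullback.fst f f (pullback.diagonal f ξ) = ξ := by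
  rw [← Scheme.Hom.comp_apply, pullback.diagonal_fst]
  rfl

theorem snd_diag (ξ : X) : pullback.snd f f (pullback.diagonal f ξ) = ξ := by
  rw [← Scheme.Hom.comp_apply, pullback.diagonal_snd]
  rfl

/-- The left map. -/
def φd (ξ : X) : X.presheaf.stalk ξ →+* Bd f ξ :=
  (X.presheaf.stalkSpecializes (specializes_of_eq (fst_diag f ξ)) ≫ (pullback.fst f f).stalkMap _).hom

/-- The right map. -/
def ψd (ξ : X) : X.presheaf.stalk ξ →+* Bd f ξ :=
  (X.presheaf.stalkSpecializes (specializes_of_eq (snd_diag f ξ)) ≫ (pullback.snd f f).stalkMap _).hom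

/-- The diagonal map. -/
def δd (ξ : X) : Bd f ξ →+* X.presheaf.stalk ξ := ((pullback.diagonal f).stalkMap ξ).hom

theorem δ_φ (ξ : X) : (δd f ξ).comp (φd f ξ) = RingHom.id _ := by
  rw [δd, φd, ← CommRingCat.hom_comp, Category.assoc,
    section_stalk _ _ (pullback.diagonal_fst f) ξ (specializes_of_eq (fst_diag f ξ))]
  rfl

theorem δ_ψ (ξ : X) : (δd f ξ).comp (ψd f ξ) = RingHom.id _ := by
  rw [δd, ψd, ← CommRingCat.hom_comp, Category.assoc,
    section_stalk _ _ (pullback.diagonal_snd f) ξ (specializes_of_eq (snd_diag f ξ))]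
  rfl

theorem flat_φd (ξ : X) : (φd f ξ).Flat := by
  haveI := (S7631.flat_snd_of_field f f).1
  exact flat_specializes _ _ _ (fst_diag f ξ)

theorem flat_ψd (ξ : X) : (ψd f ξ).Flat := by
  haveI := (S7631.flat_snd_of_field f f).2
  exact flat_specializes _ _ _ (snd_diag f ξ)

theorem stalkIdeal_comap_snd (I : X.IdealSheafData) (ξ : X) :
    IntMult.stalkIdeal (I.comap (pullback.snd f f)) (pullback.diagonal f ξ) = (IntMult.stalkIdeal I ξ).map (ψd f ξ) := by
  rw [IdealStalkLib.stalkIdeal_comap, stalkIdeal_congr I (snd_diag f ξ), Ideal.map_map]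
  rfl

theorem stalkIdeal_comap_fst (I : X.IdealSheafData) (ξ : X) :
    IntMult.stalkIdeal (I.comap (pullback.fst f f)) (pullback.diagonal f ξ) = (IntMult.stalkIdeal I ξ).map (φd f ξ) := by
  rw [IdealStalkLib.stalkIdeal_comap, stalkIdeal_congr I (fst_diag f ξ), Ideal.map_map]
  rfl

/-- Flatness of the product with a closed subscheme over the first factor. -/
theorem flat_quot_ψd (IW : X.IdealSheafData) (ξ : X) (hξ : ξ ∈ IW.support) :
    ((Ideal.Quotient.mk ((IntMult.stalkIdeal IW ξ).map (ψd f ξ))).comp (φd f ξ)).Flat := by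
  let j := pullback.fst (pullback.snd f f) IW.subschemeι
  obtain ⟨w, hw⟩ : pullback.diagonal f ξ ∈ Set.range j := by
    rw [Scheme.Pullback.range_fst, Set.mem_preimage, Scheme.IdealSheafData.range_subschemeι, snd_diag]
    exact hξ
  haveI : Flat (IW.subschemeι ≫ f) := inferInstance
  haveI : Flat (j ≫ pullback.fst f f) :=
    MorphismProperty.of_isPullback
      ((IsPullback.of_hasPullback (pullback.snd f f) IW.subschemeι).flip.paste_vert
        (IsPullback.of_hasPullback f f).flip) inferInstance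
  let sp := (pullback f f).presheaf.stalkSpecializes (specializes_of_eq hw)
  let q := (sp ≫ j.stalkMap w).hom
  have hq : Function.Surjective q := by
    haveI : IsIso sp := ⟨(pullback f f).presheaf.stalkSpecializes (specializes_of_eq hw.symm),
      by simp [sp], by simp [sp]⟩
    exact (j.stalkMap_surjective w).comp (ConcreteCategory.bijective_of_isIso sp).2
  refine flat_quot _ q hq _ ?_ ?_
  · show RingHom.ker ((j.stalkMap w).hom.comp sp.hom) = _
    rw [← RingHom.comap_ker, ← stalkIdeal_ker j w, Scheme.IdealSheafData.ker_fst_of_isClosedImmersion,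
      Scheme.IdealSheafData.ker_subschemeι, stalkIdeal_congr _ hw, stalkIdeal_comap_snd]
    refine Ideal.comap_map_of_bijective sp.hom ?_
    haveI : IsIso sp := ⟨(pullback f f).presheaf.stalkSpecializes (specializes_of_eq hw.symm),
      by simp [sp], by simp [sp]⟩
    exact ConcreteCategory.bijective_of_isIso sp
  · have hj : (j ≫ pullback.fst f f) w = ξ := by rw [Scheme.Hom.comp_apply, hw, fst_diag]
    have e := flat_specializes (j ≫ pullback.fst f f) w ξ hj
    rw [Scheme.Hom.stalkMap_comp] at e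
    show ((X.presheaf.stalkSpecializes (specializes_of_eq (fst_diag f ξ)) ≫
      (pullback.fst f f).stalkMap (pullback.diagonal f ξ)) ≫ sp ≫ j.stalkMap w).hom.Flat
    rw [Category.assoc, ← reassoc_of% Scheme.Hom.stalkSpecializes_stalkMap (pullback.fst f f) (j w)
      (pullback.diagonal f ξ) (specializes_of_eq hw), TopCat.Presheaf.stalkSpecializes_comp_assoc]
    exact e

theorem ker_prod (IV IW : X.IdealSheafData) :
    (pullback.map (IV.subschemeι ≫ f) (IW.subschemeι ≫ f) f f IV.subschemeι IW.subschemeι (𝟙 _)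
      (Category.comp_id _) (Category.comp_id _)).ker = IV.comap (pullback.fst f f) ⊔ IW.comap (pullback.snd f f) := by
  rw [S7631.ker_prod IV.subschemeι IW.subschemeι rfl rfl _ (pullback.lift_fst _ _ _) (pullback.lift_snd _ _ _),
    Scheme.IdealSheafData.ker_subschemeι, Scheme.IdealSheafData.ker_subschemeι]

/-- Reduction to the diagonal, on stalks. -/
theorem mult_eq_chi (IV IW : X.IdealSheafData) (ξ : X) (hξW : ξ ∈ IW.support) :
    IntMult.mult IV IW ξ = IntMult.chi (Bd f ξ) (Bd f ξ ⧸ RingHom.ker (δd f ξ))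
      (Bd f ξ ⧸ ((IntMult.stalkIdeal IV ξ).map (φd f ξ) ⊔ (IntMult.stalkIdeal IW ξ).map (ψd f ξ))) := by
  rw [IntMult.mult, chi_comm]
  exact chi_diag (φd f ξ) (ψd f ξ) (δd f ξ) (δ_φ f ξ) (δ_ψ f ξ) (flat_ψd f ξ) _ _ (flat_quot_ψd f IW ξ hξW)

theorem stalkIdeal_prod (IV IW : X.IdealSheafData) (ξ : X) :
    IntMult.stalkIdeal (pullback.map (IV.subschemeι ≫ f) (IW.subschemeι ≫ f) f f IV.subschemeι IW.subschemeι (𝟙 _)
      (Category.comp_id _) (Category.comp_id _)).ker (pullback.diagonal f ξ) =
      (IntMult.stalkIdeal IV ξ).map (φd f ξ) ⊔ (IntMult.stalkIdeal IW ξ).map (ψd f ξ) := by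
  rw [ker_prod, stalkIdeal_sup, stalkIdeal_comap_fst, stalkIdeal_comap_snd]

end Groth.Agent.DiagRedLib
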