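import Mathlib
import Groth.Agent.DiagRedLib.Geom
import Groth.Agent.IMultLib.Final
import Groth.Agent.RatliffLib.Equidim
import Groth.Agent.RegLocal.Basic

/-! Positivity of intersection multiplicities by reduction to the diagonal. -/

set_option autoImplicit false
set_option linter.style.haveILetI false
set_option linter.unusedSectionVars false
set_option backward.isDefEq.respectTransparency false
set_option backward.isDefEq.respectTransparency.types false

universe u

open CategoryTheory CategoryTheory.Limits AlgebraicGeometry IsLocalRing Groth.Agent RingTheory.Sequence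

noncomputable section

namespace Groth.Agent.DiagRedLib

theorem exists_regular_span {R : Type u} [CommRing R] [IsRegularLocalRing R] (L : Ideal R) [IsRegularLocalRing (R ⧸ L)]
    {b a : ℕ} (hb : ringKrullDim R = (b : WithBot ℕ∞)) (ha : ringKrullDim (R ⧸ L) = (a : WithBot ℕ∞)) :
    ∃ (c : ℕ) (g : Fin c → R), c + a = b ∧ L = Ideal.span (Set.range g) ∧ L ≤ maximalIdeal R ∧
      IsRegular R (List.ofFn g) := by
  classical
  obtain ⟨x, c, hc, hx, hL⟩ := RegLocal.exists_generators_of_quot_regular R hb L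
  let g : Fin c → R := fun i => x (Fin.castLE hc i)
  let s : Finset (Fin b) := Finset.univ.image (Fin.castLE hc)
  have hrange : x '' (s : Set (Fin b)) = Set.range g := by
    simp only [s, Finset.coe_image, Finset.coe_univ, Set.image_univ, ← Set.range_comp]
    rfl
  have hdim := (RegLocal.quot_span_image hb x hx s).2
  rw [hrange, ← hL, ha] at hdim
  have hcard : s.card = c := by
    rw [Finset.card_image_of_injective _ (Fin.castLE_injective hc), Finset.card_univ, Fintype.card_fin]
  rw [hcard] at hdim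
  have hab : a = b - c := by exact_mod_cast hdim
  have hLm : L ≤ maximalIdeal R := by
    rw [hL, ← hx]
    exact Ideal.span_mono (Set.range_comp_subset_range _ _)
  refine ⟨c, g, by omega, hL, hLm, ?_, ?_⟩
  · have h1 := (RegLocal.isRegular_of_generators R hb x hx).toIsWeaklyRegular
    have h2 : List.ofFn x = List.ofFn g ++ (List.ofFn x).drop c := by
      conv_lhs => rw [← List.take_append_drop c (List.ofFn x)]
      congr 1
      refine List.ext_getElem (by simp [hc]) fun i h1 h2 => ?_
      simp only [List.getElem_take, List.getElem_ofFn]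
      rfl
    rw [h2, isWeaklyRegular_append_iff] at h1
    exact h1.1
  · intro h
    refine (maximalIdeal.isMaximal R).ne_top (top_le_iff.1 (le_trans ?_ hLm))
    rw [hL, ← smul_top_eq_map_ofList_aux]
    exact h.le
where
  smul_top_eq_map_ofList_aux {R : Type u} [CommRing R] {c : ℕ} {g : Fin c → R} :
      Ideal.ofList (List.ofFn g) • (⊤ : Submodule R R) = Ideal.span (Set.range g) := by
    rw [smul_eq_mul, Ideal.mul_top]
    exact congrArg Ideal.span (Set.ext fun z => List.mem_ofFn)

/-- The dimension of the quotient at the diagonal is at least the codimension of the diagonal. -/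
theorem dim_ge {A B : Type u} [CommRing A] [CommRing B] [IsLocalRing A] [IsLocalRing B] [IsNoetherianRing A]
    [IsNoetherianRing B] (φ ψ : A →+* B) [IsLocalHom φ] [IsLocalHom ψ] (hφ : φ.Flat) (hψ : ψ.Flat) (I J : Ideal A)
    (hI : I ≠ ⊤) (hJ : J ≠ ⊤) (hf : ((Ideal.Quotient.mk (J.map ψ)).comp φ).Flat)
    {a b v w : ℕ} (ha : ringKrullDim A = (a : WithBot ℕ∞)) (hb : ringKrullDim B = (b : WithBot ℕ∞))
    (hv : ringKrullDim (A ⧸ I) = (v : WithBot ℕ∞)) (hw : ringKrullDim (A ⧸ J) = (w : WithBot ℕ∞)) (hle : a ≤ v + w) :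
    ∃ d : ℕ, ringKrullDim (B ⧸ (I.map φ ⊔ J.map ψ)) = (d : WithBot ℕ∞) ∧ b - a ≤ d := by
  have hJm : J.map ψ ≤ maximalIdeal B :=
    (Ideal.map_mono (le_maximalIdeal hJ)).trans (((local_hom_TFAE ψ).out 0 2 rfl rfl).mp inferInstance)
  let B' := B ⧸ J.map ψ
  haveI : Nontrivial B' := Ideal.Quotient.nontrivial_iff.2 (ne_top_of_le_ne_top (maximalIdeal.isMaximal B).ne_top hJm)
  haveI : IsLocalRing B' := IsLocalRing.of_surjective' _ Ideal.Quotient.mk_surjective
  have e1 : ((a : ℕ) : WithBot ℕ∞) + ringKrullDim (B ⧸ (maximalIdeal A).map ψ) = b := by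
    letI : Algebra A B := ψ.toAlgebra
    haveI : Module.Flat A B := hψ
    haveI : IsLocalHom (algebraMap A B) := ‹IsLocalHom ψ›
    rw [← hb, RatliffLib.dim_flat_local (A := A) (A' := B), ha]
    rfl
  have e2 : ringKrullDim B' = (w : WithBot ℕ∞) + ringKrullDim (B ⧸ (maximalIdeal A).map ψ) := by
    letI : Algebra A B := ψ.toAlgebra
    haveI : Module.Flat A B := hψ
    haveI : IsLocalHom (algebraMap A B) := ‹IsLocalHom ψ›
    letI : Algebra (A ⧸ J) B' := inferInstanceAs (Algebra (A ⧸ J) (B ⧸ J.map (algebraMap A B)))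
    haveI : Module.Flat (A ⧸ J) B' := RatliffLib.flat_quot (B := B) J
    haveI : IsLocalRing (A ⧸ J) := RegLocal.isLocalRing_quot hJ
    haveI : IsLocalHom (algebraMap (A ⧸ J) B') := by
      refine ((local_hom_TFAE _).out 2 0 rfl rfl).mp ?_
      rw [RegLocal.maximalIdeal_quot hJ, Ideal.map_map]
      exact (Ideal.map_map ψ (Ideal.Quotient.mk (J.map ψ))).symm.le.trans ((Ideal.map_mono
        (((local_hom_TFAE ψ).out 0 2 rfl rfl).mp inferInstance)).trans
        (IsLocalRing.map_maximalIdeal_of_surjective _ Ideal.Quotient.mk_surjective).le)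
    rw [RatliffLib.dim_flat_local (A := A ⧸ J) (A' := B'), hw, RegLocal.maximalIdeal_quot hJ, Ideal.map_map]
    congr 1
    refine ringKrullDim_eq_of_ringEquiv ((Ideal.quotEquivOfEq (show _ = ((maximalIdeal A).map ψ).map
      (Ideal.Quotient.mk (J.map ψ)) from (Ideal.map_map ψ (Ideal.Quotient.mk (J.map ψ))).symm)).trans
      ((DoubleQuot.quotQuotEquivQuotSup _ _).trans (Ideal.quotEquivOfEq ?_)))
    exact sup_eq_right.2 (Ideal.map_mono (le_maximalIdeal hJ))
  letI : Algebra A B' := ((Ideal.Quotient.mk (J.map ψ)).comp φ).toAlgebra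
  haveI : Module.Flat A B' := hf
  haveI : IsLocalHom (Ideal.Quotient.mk (J.map ψ)) := Ideal.Quotient.mk_surjective.isLocalHom _
  haveI : IsLocalHom (algebraMap A B') := RingHom.isLocalHom_comp _ _
  have e3 := RatliffLib.dim_flat_local (A := A) (A' := B')
  let C := B' ⧸ I.map (algebraMap A B')
  haveI : IsLocalRing (A ⧸ I) := RegLocal.isLocalRing_quot hI
  haveI : Nontrivial C := Ideal.Quotient.nontrivial_iff.2 (ne_top_of_le_ne_top (maximalIdeal.isMaximal B').ne_top
    (RatliffLib.map_le_maximal I hI))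
  haveI : IsLocalRing C := IsLocalRing.of_surjective' _ Ideal.Quotient.mk_surjective
  letI : Algebra (A ⧸ I) C := Ideal.Quotient.algebraQuotientMapQuotient
  haveI : Module.Flat (A ⧸ I) C := RatliffLib.flat_quot (B := B') I
  haveI : IsLocalHom (algebraMap (A ⧸ I) C) := by
    refine ((local_hom_TFAE _).out 2 0 rfl rfl).mp ?_
    rw [RegLocal.maximalIdeal_quot hI, Ideal.map_map]
    exact (Ideal.map_map (algebraMap A B') (Ideal.Quotient.mk (I.map (algebraMap A B')))).symm.le.trans ((Ideal.map_mono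
      (((local_hom_TFAE (algebraMap A B')).out 0 2 rfl rfl).mp inferInstance)).trans
      (IsLocalRing.map_maximalIdeal_of_surjective _ Ideal.Quotient.mk_surjective).le)
  have e4 : ringKrullDim C = (v : WithBot ℕ∞) + ringKrullDim (B' ⧸ (maximalIdeal A).map (algebraMap A B')) := by
    rw [RatliffLib.dim_flat_local (A := A ⧸ I) (A' := C), hv, RegLocal.maximalIdeal_quot hI, Ideal.map_map]
    congr 1
    refine ringKrullDim_eq_of_ringEquiv ((Ideal.quotEquivOfEq (show _ = ((maximalIdeal A).map (algebraMap A B')).map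
      (Ideal.Quotient.mk (I.map (algebraMap A B'))) from
        (Ideal.map_map (algebraMap A B') (Ideal.Quotient.mk (I.map (algebraMap A B')))).symm)).trans
      ((DoubleQuot.quotQuotEquivQuotSup _ _).trans (Ideal.quotEquivOfEq ?_)))
    exact sup_eq_right.2 (Ideal.map_mono (le_maximalIdeal hI))
  have eC : ringKrullDim C = ringKrullDim (B ⧸ (I.map φ ⊔ J.map ψ)) :=
    ringKrullDim_eq_of_ringEquiv ((Ideal.quotEquivOfEq (show I.map (algebraMap A B') =
      (I.map φ).map (Ideal.Quotient.mk (J.map ψ)) from (Ideal.map_map φ (Ideal.Quotient.mk (J.map ψ))).symm)).trans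
        ((DoubleQuot.quotQuotEquivQuotSup _ _).trans (Ideal.quotEquivOfEq (sup_comm _ _))))
  have hfin : ∀ (R : Type u) [CommRing R] [IsLocalRing R] [IsNoetherianRing R],
      ∃ d : ℕ, ringKrullDim R = (d : WithBot ℕ∞) := fun R _ _ _ => RegLocal.exists_nat_ringKrullDim R
  haveI : Nontrivial (B ⧸ (maximalIdeal A).map ψ) := Ideal.Quotient.nontrivial_iff.2
    (ne_top_of_le_ne_top (maximalIdeal.isMaximal B).ne_top (((local_hom_TFAE ψ).out 0 2 rfl rfl).mp inferInstance))
  haveI : IsLocalRing (B ⧸ (maximalIdeal A).map ψ) := IsLocalRing.of_surjective' _ Ideal.Quotient.mk_surjective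
  haveI : Nontrivial (B' ⧸ (maximalIdeal A).map (algebraMap A B')) := Ideal.Quotient.nontrivial_iff.2
    (ne_top_of_le_ne_top (maximalIdeal.isMaximal B').ne_top
      (RatliffLib.map_le_maximal _ (maximalIdeal.isMaximal A).ne_top))
  haveI : IsLocalRing (B' ⧸ (maximalIdeal A).map (algebraMap A B')) :=
    IsLocalRing.of_surjective' _ Ideal.Quotient.mk_surjective
  obtain ⟨g, hg⟩ := hfin (B ⧸ (maximalIdeal A).map ψ)
  obtain ⟨h, hh⟩ := hfin (B' ⧸ (maximalIdeal A).map (algebraMap A B'))
  obtain ⟨d, hd⟩ := hfin C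
  obtain ⟨b', hb'⟩ := hfin B'
  rw [hg] at e1 e2
  rw [hh, ha, hb'] at e3
  rw [hh, hd] at e4
  rw [hb'] at e2
  have n1 : a + g = b := by exact_mod_cast e1
  have n2 : b' = w + g := by exact_mod_cast e2
  have n3 : b' = a + h := by exact_mod_cast e3
  have n4 : d = v + h := by exact_mod_cast e4
  exact ⟨d, eC ▸ hd, by omega⟩

variable {K : Type u} [Field K] {X : Scheme.{u}} (f : X ⟶ Spec (CommRingCat.of K)) [Smooth f] [IsSeparated f]
  [IsIntegral X] (IV IW : X.IdealSheafData) [IsIntegral IV.subscheme] [IsIntegral IW.subscheme]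

include f in
theorem mult_pos (n r s : ℕ) (hn : topologicalKrullDim X = n) (hr : topologicalKrullDim IV.support = r)
    (hs : topologicalKrullDim IW.support = s) (hprop : IntMult.ProperInt (IV.support : Set X) (IW.support : Set X) n r s)
    (ξ : X) (hξV : ξ ∈ IV.support) (hξW : ξ ∈ IW.support)
    (hmax : ∀ ξ' : X, ξ' ∈ IV.support → ξ' ∈ IW.support → ξ' ⤳ ξ → ξ' = ξ) : 0 < IntMult.mult IV IW ξ := by
  haveI := Groth.Agent.ASp.isRegularLocalRing_stalk_of_smooth_field f ξ
  haveI : Smooth (pullback.fst f f ≫ f) := inferInstance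
  haveI : IsRegularLocalRing (Bd f ξ) :=
    Groth.Agent.ASp.isRegularLocalRing_stalk_of_smooth_field (pullback.fst f f ≫ f) (pullback.diagonal f ξ)
  haveI : IsLocalHom (φd f ξ) := by
    haveI : IsLocalHom (X.presheaf.stalkSpecializes (specializes_of_eq (fst_diag f ξ))).hom := by
      haveI : IsIso (X.presheaf.stalkSpecializes (specializes_of_eq (fst_diag f ξ))) :=
        ⟨X.presheaf.stalkSpecializes (specializes_of_eq (fst_diag f ξ).symm), by simp, by simp⟩
      exact isLocalHom_of_isIso _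
    exact RingHom.isLocalHom_comp ((pullback.fst f f).stalkMap _).hom _
  haveI : IsLocalHom (ψd f ξ) := by
    haveI : IsLocalHom (X.presheaf.stalkSpecializes (specializes_of_eq (snd_diag f ξ))).hom := by
      haveI : IsIso (X.presheaf.stalkSpecializes (specializes_of_eq (snd_diag f ξ))) :=
        ⟨X.presheaf.stalkSpecializes (specializes_of_eq (snd_diag f ξ).symm), by simp, by simp⟩
      exact isLocalHom_of_isIso _
    exact RingHom.isLocalHom_comp ((pullback.snd f f).stalkMap _).hom _
  obtain ⟨a, v, w, ha, hv, hw, hle⟩ := IMultLib.exists_dims f IV IW n r s hn hr hs hprop ξ hξV hξW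
  obtain ⟨b, hb⟩ := RegLocal.exists_nat_ringKrullDim (Bd f ξ)
  set I := IntMult.stalkIdeal IV ξ
  set J := IntMult.stalkIdeal IW ξ
  have hIm := IdealStalkLib.stalkIdeal_le_maximal IV hξV
  have hJm := IdealStalkLib.stalkIdeal_le_maximal IW hξW
  have hne : ∀ {L : Ideal (X.presheaf.stalk ξ)}, L ≤ maximalIdeal _ → L ≠ ⊤ := fun h =>
    ne_top_of_le_ne_top (maximalIdeal.isMaximal _).ne_top h
  have hsurj : Function.Surjective (δd f ξ) := fun x => ⟨φd f ξ x, congrArg (fun m => m x) (δ_φ f ξ)⟩
  let e := RingHom.quotientKerEquivOfSurjective hsurj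
  haveI : IsRegularLocalRing (Bd f ξ ⧸ RingHom.ker (δd f ξ)) := IsRegularLocalRing.of_ringEquiv e.symm
  obtain ⟨c, g, hca, hg, hgm, hreg⟩ := exists_regular_span (RingHom.ker (δd f ξ)) hb
    ((ringKrullDim_eq_of_ringEquiv e).trans ha)
  set S := I.map (φd f ξ) ⊔ J.map (ψd f ξ)
  obtain ⟨d, hd, hbd⟩ := dim_ge (φd f ξ) (ψd f ξ) (flat_φd f ξ) (flat_ψd f ξ) I J (hne hIm) (hne hJm)
    (flat_quot_ψd f IW ξ hξW) ha hb hv hw hle
  have hSm : S ≤ maximalIdeal (Bd f ξ) := sup_le
    ((Ideal.map_mono hIm).trans (((local_hom_TFAE (φd f ξ)).out 0 2 rfl rfl).mp inferInstance))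
    ((Ideal.map_mono hJm).trans (((local_hom_TFAE (ψd f ξ)).out 0 2 rfl rfl).mp inferInstance))
  have hmap : S.map (δd f ξ) = I ⊔ J := by
    rw [Ideal.map_sup, Ideal.map_map, Ideal.map_map, δ_φ, δ_ψ, Ideal.map_id, Ideal.map_id]
  have hrad : (Ideal.span (Set.range g) ⊔ S).radical = maximalIdeal (Bd f ξ) := by
    rw [← hg, sup_comm, RingHom.ker_eq_comap_bot, ← Ideal.comap_map_of_surjective _ hsurj, hmap,
      ← Ideal.comap_radical, IMultLib.sup_radical IV IW ξ hξV hξW hmax]
    haveI : IsLocalHom (δd f ξ) := inferInstanceAs (IsLocalHom ((pullback.diagonal f).stalkMap ξ).hom)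
    exact (((local_hom_TFAE (δd f ξ)).out 0 4 rfl rfl).mp inferInstance)
  obtain ⟨-, hpos⟩ := IMultLib.tendsto_and_pos g S (hg ▸ hgm) (ne_top_of_le_ne_top (maximalIdeal.isMaximal _).ne_top hSm)
    hreg hrad hd (by omega)
  rw [mult_eq_chi f IV IW ξ hξW, IMultLib.chi_comm, hg]
  exact hpos

end Groth.Agent.DiagRedLib
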